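import Groth.Prelude.Def_Twist2
import Mathlib.RingTheory.GradedAlgebra.Radical
import Mathlib.RingTheory.IntegralClosure.IsIntegral.AlmostIntegral
import Mathlib.RingTheory.Localization.FractionRing
import Mathlib.RingTheory.IntegralClosure.IntegrallyClosed

/-!
# Global sections of `O(d)` on `Proj` of a normal graded domain

For a graded domain, a global section of `O(d)` is a single element `z` of the fraction field
with `A_{M}·z ⊆ A_{M+d}` for `M ≫ 0`; if the ring is Noetherian and integrally closed, `z ∈ A_d`.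
-/

open CategoryTheory AlgebraicGeometry TopologicalSpace Opposite

universe u

namespace Groth.Agent.TwistDom24

variable {R A : Type u} [CommRing R] [CommRing A] [IsDomain A] [Algebra R A]
  {𝒜 : ℕ → Submodule R A} [GradedAlgebra 𝒜]

theorem ne_zero_of_not_mem (x : ProjectiveSpectrum 𝒜) {s : A}
    (hs : s ∉ x.asHomogeneousIdeal) : s ≠ 0 := by
  rintro rfl; exact hs (Ideal.zero_mem x.asHomogeneousIdeal.toIdeal)

/-- The map from the localization at a point to the fraction field. -/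
noncomputable def toFrac (x : ProjectiveSpectrum 𝒜) : Twist.Loc 𝒜 x →+* FractionRing A :=
  IsLocalization.lift (M := x.asHomogeneousIdeal.toIdeal.primeCompl)
    (g := algebraMap A (FractionRing A)) fun s =>
      isUnit_iff_ne_zero.2 ((map_ne_zero_iff _ (IsFractionRing.injective A (FractionRing A))).2
        (ne_zero_of_not_mem x s.2))

theorem toFrac_injective (x : ProjectiveSpectrum 𝒜) : Function.Injective (toFrac x) := by
  rw [toFrac, IsLocalization.lift_injective_iff]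
  intro a b
  constructor
  · intro h
    rw [IsLocalization.eq_iff_exists x.asHomogeneousIdeal.toIdeal.primeCompl] at h
    obtain ⟨c, hc⟩ := h
    rw [mul_left_cancel₀ (ne_zero_of_not_mem x c.2) hc]
  · intro h
    rw [IsFractionRing.injective A (FractionRing A) h]

theorem algebraMap_mul_toFrac_mk (x : ProjectiveSpectrum 𝒜) (a s : A)
    (hs : s ∉ x.asHomogeneousIdeal) :
    algebraMap A (FractionRing A) s * toFrac x (Localization.mk a ⟨s, hs⟩) =
      algebraMap A (FractionRing A) a := by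
  rw [Localization.mk_eq_mk']
  exact ((IsLocalization.lift_mk'_spec (S := Twist.Loc 𝒜 x) (M := x.asHomogeneousIdeal.toIdeal.primeCompl) (g := algebraMap A (FractionRing A)) _ a _ ⟨s, hs⟩).1 rfl).symm

/-- The generic point of `Proj` of a graded domain with nonzero degree-one part. -/
def genPt (h1 : 𝒜 1 ≠ ⊥) : ProjectiveSpectrum 𝒜 where
  asHomogeneousIdeal := ⊥
  isPrime := by
    rw [HomogeneousIdeal.toIdeal_bot]; exact Ideal.isPrime_bot
  not_irrelevant_le h := by
    obtain ⟨a, ha, ha0⟩ := (Submodule.ne_bot_iff _).1 h1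
    have hmem : a ∈ HomogeneousIdeal.irrelevant 𝒜 := by
      rw [HomogeneousIdeal.mem_irrelevant_iff, GradedRing.proj_apply]
      exact DirectSum.decompose_of_mem_ne 𝒜 ha one_ne_zero
    have : a ∈ (⊥ : HomogeneousIdeal 𝒜).toIdeal := h hmem
    rw [HomogeneousIdeal.toIdeal_bot] at this
    exact ha0 (Submodule.mem_bot _ |>.1 this)

theorem genPt_mem (h1 : 𝒜 1 ≠ ⊥) {V : Opens (ProjectiveSpectrum.top 𝒜)}
    {x : ProjectiveSpectrum.top 𝒜} (hx : x ∈ V) : genPt h1 ∈ V := by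
  have hle : genPt h1 ≤ x := bot_le (a := x.asHomogeneousIdeal)
  have hmem := (ProjectiveSpectrum.le_iff_mem_closure 𝒜 _ _).1 hle
  obtain ⟨y, hyV, hy⟩ := mem_closure_iff.1 hmem (V : Set (ProjectiveSpectrum.top 𝒜)) V.isOpen hx
  rw [Set.mem_singleton_iff] at hy
  exact hy ▸ hyV

variable {d : ℕ}

/-- The element of the fraction field underlying a global section of `O(d)`. -/
noncomputable def fracOf (h1 : 𝒜 1 ≠ ⊥)
    (σ : Twist.sectN (𝒜 := 𝒜) (d : ℤ) (op ⊤)) : FractionRing A :=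
  toFrac (genPt h1) (σ.1 ⟨genPt h1, trivial⟩).1

theorem local_eq_frac (h1 : 𝒜 1 ≠ ⊥) (σ : Twist.sectN (𝒜 := 𝒜) (d : ℤ) (op ⊤))
    (x : ProjectiveSpectrum 𝒜) :
    toFrac x (σ.1 ⟨x, trivial⟩).1 = fracOf h1 σ ∧
    ∃ (j : ℕ) (s a : A), s ∈ 𝒜 j ∧ s ∉ x.asHomogeneousIdeal ∧ a ∈ 𝒜 (j + d) ∧
      algebraMap A (FractionRing A) a = algebraMap A (FractionRing A) s * fracOf h1 σ := by
  obtain ⟨V, mV, iV, i, j, ⟨a, a_mem⟩, ⟨s, s_mem⟩, nin, hdeg, w⟩ := σ.2 ⟨x, trivial⟩
  have hη : genPt h1 ∈ V := genPt_mem h1 mV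
  have ex := algebraMap_mul_toFrac_mk x a s (nin ⟨x, mV⟩)
  have eη := algebraMap_mul_toFrac_mk (genPt h1) a s (nin ⟨_, hη⟩)
  have wx := w ⟨x, mV⟩
  have wη := w ⟨_, hη⟩
  have ex' : algebraMap A (FractionRing A) s * toFrac x (σ.1 ⟨x, trivial⟩).1 =
      algebraMap A (FractionRing A) a := by rw [← ex]; congr 2
  have eη' : algebraMap A (FractionRing A) s * fracOf h1 σ =
      algebraMap A (FractionRing A) a := by rw [← eη, fracOf]; congr 2
  have hs0 : algebraMap A (FractionRing A) s ≠ 0 :=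
    (map_ne_zero_iff _ (IsFractionRing.injective A (FractionRing A))).2
      (ne_zero_of_not_mem x (nin ⟨x, mV⟩))
  refine ⟨mul_left_cancel₀ hs0 (ex'.trans eη'.symm), ?_⟩
  refine ⟨j, s, a, s_mem, nin ⟨x, mV⟩, ?_, eη'.symm⟩
  rcases hdeg with hd | hd
  · have : i = j + d := by omega
    exact this ▸ a_mem
  · have : a = 0 := hd
    rw [this]; exact zero_mem _

/-- Homogeneous elements `s` with `z·s` homogeneous in `A` of degree shifted by `d`. -/
def denomSet (𝒜 : ℕ → Submodule R A) (d : ℕ) (z : FractionRing A) : Set A :=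
  {s | ∃ j, s ∈ 𝒜 j ∧ ∃ a ∈ 𝒜 (j + d),
    algebraMap A (FractionRing A) a = algebraMap A (FractionRing A) s * z}

theorem exists_mul_mem_of_mem_span (z : FractionRing A) {b : A}
    (hb : b ∈ Ideal.span (denomSet 𝒜 d z)) {M : ℕ} (hM : b ∈ 𝒜 M) :
    ∃ a ∈ 𝒜 (M + d), algebraMap A (FractionRing A) a = algebraMap A (FractionRing A) b * z := by
  classical
  suffices H : ∀ M, ∃ a ∈ 𝒜 (M + d), algebraMap A (FractionRing A) a =
      algebraMap A (FractionRing A) (DirectSum.decompose 𝒜 b M : A) * z by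
    simpa [DirectSum.decompose_of_mem_same 𝒜 hM] using H M
  clear hM M
  induction hb using Submodule.span_induction with
  | mem s hs =>
    intro M
    obtain ⟨j, hj, a, ha, hz⟩ := hs
    by_cases h : j = M
    · subst h; rw [DirectSum.decompose_of_mem_same 𝒜 hj]; exact ⟨a, ha, hz⟩
    · rw [DirectSum.decompose_of_mem_ne 𝒜 hj h]; exact ⟨0, zero_mem _, by simp⟩
  | zero => intro M; exact ⟨0, zero_mem _, by simp⟩
  | add x y _ _ hx hy =>
    intro M
    obtain ⟨a, ha, ha'⟩ := hx M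
    obtain ⟨c, hc, hc'⟩ := hy M
    exact ⟨a + c, add_mem ha hc, by simp [ha', hc', add_mul]⟩
  | smul c x _ hx =>
    induction c using DirectSum.Decomposition.inductionOn 𝒜 with
    | zero => intro M; exact ⟨0, zero_mem _, by simp⟩
    | @homogeneous i m =>
      intro M
      rw [smul_eq_mul, DirectSum.coe_decompose_mul_of_left_mem 𝒜 M m.2]
      split_ifs with hi
      · obtain ⟨a, ha, ha'⟩ := hx (M - i)
        refine ⟨(m : A) * a, ?_, by rw [map_mul, map_mul, ha']; ring⟩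
        have e : i + (M - i + d) = M + d := by omega
        exact e ▸ SetLike.mul_mem_graded m.2 ha
      · exact ⟨0, zero_mem _, by simp⟩
    | add p q hp hq =>
      intro M
      obtain ⟨a, ha, ha'⟩ := hp M
      obtain ⟨c, hc, hc'⟩ := hq M
      exact ⟨a + c, add_mem ha hc, by simp [add_smul, ha', hc', add_mul]⟩

theorem mem_irrelevant_pow (hgen : ∀ i : ℕ, 𝒜 1 * 𝒜 i = 𝒜 (i + 1)) :
    ∀ (N : ℕ) (b : A), b ∈ 𝒜 N → b ∈ (HomogeneousIdeal.irrelevant 𝒜).toIdeal ^ N := by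
  intro N
  induction N with
  | zero => intro b _; simp
  | succ N ih =>
    intro b hb
    rw [← hgen N] at hb
    refine Submodule.mul_induction_on hb (fun p hp q hq => ?_) fun _ _ hx hy => add_mem hx hy
    rw [pow_succ']
    refine Ideal.mul_mem_mul ?_ (ih q hq)
    change p ∈ HomogeneousIdeal.irrelevant 𝒜
    rw [HomogeneousIdeal.mem_irrelevant_iff, GradedRing.proj_apply]
    exact DirectSum.decompose_of_mem_ne 𝒜 hp one_ne_zero

theorem exists_deg_mem (h1 : 𝒜 1 ≠ ⊥) [IsNoetherianRing A]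
    (hgen : ∀ i : ℕ, 𝒜 1 * 𝒜 i = 𝒜 (i + 1)) (σ : Twist.sectN (𝒜 := 𝒜) (d : ℤ) (op ⊤)) :
    ∃ N : ℕ, ∀ M, N ≤ M → ∀ b ∈ 𝒜 M, ∃ a ∈ 𝒜 (M + d),
      algebraMap A (FractionRing A) a = algebraMap A (FractionRing A) b * fracOf h1 σ := by
  classical
  set J : Ideal A := Ideal.span (denomSet 𝒜 d (fracOf h1 σ)) with hJ
  have hJh : J.IsHomogeneous 𝒜 :=
    Ideal.homogeneous_span 𝒜 _ fun s hs => ⟨hs.choose, hs.choose_spec.1⟩
  have hrad : (HomogeneousIdeal.irrelevant 𝒜).toIdeal ≤ J.radical := by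
    rw [hJh.radical_eq]
    refine le_sInf ?_
    rintro P ⟨hPh, hJP, hPp⟩
    by_contra hne
    obtain ⟨-, j, s, a, hs, hsx, ha, hz⟩ :=
      local_eq_frac h1 σ ⟨⟨P, hPh⟩, hPp, hne⟩
    exact hsx (hJP (Ideal.subset_span ⟨j, hs, a, ha, hz⟩))
  obtain ⟨N, hN⟩ := J.exists_radical_pow_le_of_fg (IsNoetherian.noetherian _)
  refine ⟨N, fun M hM b hb => exists_mul_mem_of_mem_span _ ?_ hb⟩
  exact hN (Ideal.pow_right_mono hrad N
    (Ideal.pow_le_pow_right hM (mem_irrelevant_pow hgen M b hb)))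

theorem exists_deg_eq_fracOf (h1 : 𝒜 1 ≠ ⊥) [IsNoetherianRing A] [IsIntegrallyClosed A]
    (hgen : ∀ i : ℕ, 𝒜 1 * 𝒜 i = 𝒜 (i + 1)) (σ : Twist.sectN (𝒜 := 𝒜) (d : ℤ) (op ⊤)) :
    ∃ a : 𝒜 d, algebraMap A (FractionRing A) a = fracOf h1 σ := by
  classical
  set K := FractionRing A
  obtain ⟨N, hN⟩ := exists_deg_mem h1 hgen σ
  obtain ⟨f, hf, hf0⟩ := (Submodule.ne_bot_iff _).1 h1
  have hb : f ^ N ∈ 𝒜 N := by simpa using SetLike.pow_mem_graded N hf
  have hb0 : f ^ N ≠ 0 := pow_ne_zero _ hf0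
  have hpow : ∀ r : ℕ, ∃ a ∈ 𝒜 (N + r * d),
      algebraMap A K a = algebraMap A K (f ^ N) * fracOf h1 σ ^ r := by
    intro r
    induction r with
    | zero => exact ⟨f ^ N, by simpa using hb, by simp⟩
    | succ r ih =>
      obtain ⟨a, ha, ha'⟩ := ih
      obtain ⟨a', ha1, ha2⟩ := hN _ (Nat.le_add_right _ _) a ha
      refine ⟨a', ?_, by rw [ha2, ha', pow_succ]; ring⟩
      have e : N + r * d + d = N + (r + 1) * d := by ring
      exact e ▸ ha1
  have hz : IsAlmostIntegral A (fracOf h1 σ) := by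
    refine ⟨f ^ N, mem_nonZeroDivisors_of_ne_zero hb0, fun r => ?_⟩
    obtain ⟨a, -, ha⟩ := hpow r
    exact ⟨a, by rw [Algebra.smul_def]; exact ha⟩
  obtain ⟨c, hc⟩ := IsIntegrallyClosed.algebraMap_eq_of_integral hz.isIntegral
  obtain ⟨a, ha, ha'⟩ := hN N le_rfl _ hb
  have hac : a = f ^ N * c := IsFractionRing.injective A K (by rw [ha', map_mul, ← hc])
  refine ⟨⟨c, ?_⟩, hc⟩
  have hcomp : ∀ i, i ≠ d → (DirectSum.decompose 𝒜 c i : A) = 0 := fun i hi => by
    have := DirectSum.coe_decompose_mul_of_left_mem_of_le 𝒜 (n := N + i) (b := c) hb (Nat.le_add_right _ _)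
    rw [← hac, DirectSum.decompose_of_mem_ne 𝒜 ha (by omega), Nat.add_sub_cancel_left] at this
    exact (mul_eq_zero.1 this.symm).resolve_left hb0
  rw [← DirectSum.sum_support_decompose 𝒜 c]
  refine sum_mem fun i _ => ?_
  rcases eq_or_ne i d with rfl | hi
  · exact SetLike.coe_mem _
  · rw [hcomp i hi]; exact zero_mem _

theorem toFrac_globalOf (a : 𝒜 d) (x : ProjectiveSpectrum 𝒜) :
    toFrac x ((Twist.globalOf 𝒜 a).1 ⟨x, trivial⟩).1 = algebraMap A (FractionRing A) a := by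
  have h : (1 : A) ∉ x.asHomogeneousIdeal := fun h =>
    x.isPrime.ne_top ((Ideal.eq_top_iff_one _).mpr h)
  have := algebraMap_mul_toFrac_mk x a.1 1 h
  rw [map_one, one_mul] at this
  exact this

theorem globalOf_bijective [IsNoetherianRing A] [IsIntegrallyClosed A]
    (hgen : ∀ i : ℕ, 𝒜 1 * 𝒜 i = 𝒜 (i + 1)) (h1 : 𝒜 1 ≠ ⊥) (d : ℕ) :
    Function.Bijective (fun a : ↥(𝒜 d) => Twist.globalOf 𝒜 a) := by
  constructor
  · intro a b hab
    have ha := toFrac_globalOf a (genPt h1)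
    have hb := toFrac_globalOf b (genPt h1)
    simp only at hab
    rw [hab] at ha
    exact Subtype.ext (IsFractionRing.injective A _ (ha.symm.trans hb))
  · intro σ
    obtain ⟨a, ha⟩ := exists_deg_eq_fracOf h1 hgen σ
    refine ⟨a, Subtype.ext (funext fun x => Subtype.ext (toFrac_injective x.1 ?_))⟩
    exact (toFrac_globalOf a x.1).trans (ha.trans (local_eq_frac h1 σ x.1).1.symm)

end Groth.Agent.TwistDom24
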